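import Groth.Agent.MiscFlat6.FreeStalks
import Groth.Agent.FlatLib.QStalk
import Groth.Agent.S9349
import Groth.Agent.S9351
import Groth.Agent.RelFlatLib.Basic
import Groth.Agent.QCohLib.Push
import Groth.Agent.DepthLib.Codepth
import Groth.Agent.CurvLib.Divisor
import Groth.Agent.SurfNumLib.Eff
import Groth.Agent.PerfBaseLib.SplitSheaf

/-!
# Ranks of finite flat quasi-coherent modules
-/

set_option autoImplicit false
universe u

open CategoryTheory AlgebraicGeometry TopologicalSpace Opposite ProjFormLib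
open scoped TensorProduct

namespace FlatRankLib

/-- Elements independent at a prime stay independent at a smaller one. -/
theorem linearIndependent_localized {R N : Type*} [CommRing R] [AddCommGroup N] [Module R N]
    (p q : Ideal R) [p.IsPrime] [q.IsPrime] (hpq : p ≤ q)
    {Rp Rq Mp Mq : Type*} [CommRing Rp] [Algebra R Rp] [IsLocalization.AtPrime Rp p]
    [CommRing Rq] [Algebra R Rq] [IsLocalization.AtPrime Rq q]
    [AddCommGroup Mp] [Module R Mp] [Module Rp Mp] [IsScalarTower R Rp Mp]
    [AddCommGroup Mq] [Module R Mq] [Module Rq Mq] [IsScalarTower R Rq Mq]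
    (f : N →ₗ[R] Mp) [IsLocalizedModule p.primeCompl f] (g : N →ₗ[R] Mq) [IsLocalizedModule q.primeCompl g]
    {n : ℕ} (e : Fin n → N) (h : LinearIndependent Rq fun i => g (e i)) :
    LinearIndependent Rp fun i => f (e i) := by
  rw [Fintype.linearIndependent_iff]
  intro a ha i
  obtain ⟨b, hb⟩ := IsLocalization.exist_integer_multiples p.primeCompl (Finset.univ : Finset (Fin n)) a
  choose c hc using fun j => hb j (Finset.mem_univ j)
  have h0 : f (∑ j, c j • e j) = 0 := by
    rw [map_sum]
    have h1 : ∀ j, f (c j • e j) = (b : R) • (a j • f (e j)) := fun j => by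
      rw [map_smul, ← IsScalarTower.algebraMap_smul Rp (c j) (f (e j)), hc j, smul_assoc]
    simp only [h1, ← Finset.smul_sum, ha, smul_zero]
  obtain ⟨t, ht⟩ := IsLocalizedModule.exists_of_eq (S := p.primeCompl) (f := f) (h0.trans (map_zero f).symm)
  rw [smul_zero] at ht
  have h2 : ∀ j, algebraMap R Rq ((t : R) * c j) = 0 := by
    refine Fintype.linearIndependent_iff.1 h _ ?_
    have h3 : g (∑ j, ((t : R) * c j) • e j) = 0 := by
      simp only [mul_smul, ← Finset.smul_sum]
      have ht' : (t : R) • (∑ j, c j • e j) = 0 := ht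
      rw [ht', map_zero]
    rw [map_sum] at h3
    refine Eq.trans (Finset.sum_congr rfl fun j _ => ?_) h3
    rw [map_smul, IsScalarTower.algebraMap_smul Rq]
  obtain ⟨⟨u, hu⟩, hu'⟩ := (IsLocalization.map_eq_zero_iff q.primeCompl Rq _).1 (h2 i)
  have h4 : algebraMap R Rp (c i) = 0 := by
    refine (IsLocalization.map_eq_zero_iff p.primeCompl Rp _).2
      ⟨⟨u * (t : R), p.primeCompl.mul_mem (fun hup => hu (hpq hup)) t.2⟩, ?_⟩
    show u * (t : R) * c i = 0
    rw [mul_assoc]
    exact hu'
  have h5 : (b : R) • a i = 0 := by rw [← hc i, h4]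
  rw [Algebra.smul_def] at h5
  exact (IsLocalization.map_units Rp b).mul_right_eq_zero.1 h5

variable {X : Scheme.{u}}

/-- The fibre rank of a module. -/
noncomputable def rk (M : X.Modules) (x : X) : ℕ :=
  Module.finrank (IsLocalRing.ResidueField (X.presheaf.stalk x))
    ((IsLocalRing.ResidueField (X.presheaf.stalk x)) ⊗[X.presheaf.stalk x] (M.presheaf.stalk x))

variable {M : X.Modules}

theorem finite_stalk_of_isFT (hFT : CohB1.IsFT M) (x : X) :
    Module.Finite (X.presheaf.stalk x) (M.presheaf.stalk x) := by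
  obtain ⟨U, n, e, hx, -, hs⟩ := MiscFlat6.exists_spanning_nhd hFT x
  exact MiscFlat6.finite_stalk (hs x hx)

theorem free_stalk (hFT : CohB1.IsFT M) (hF : FlatMod.IsFlat M) (x : X) :
    Module.Free (X.presheaf.stalk x) (M.presheaf.stalk x) :=
  haveI := finite_stalk_of_isFT hFT x
  haveI : Module.Flat (X.presheaf.stalk x) (M.presheaf.stalk x) := hF x
  Module.free_of_flat_of_isLocalRing

theorem rk_le_nhd (hFT : CohB1.IsFT M) (hF : FlatMod.IsFlat M) (x : X) :
    ∃ U : X.Opens, x ∈ U ∧ ∀ y ∈ U, rk M y ≤ rk M x := by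
  obtain ⟨U, n, e, hx, hn, hs⟩ := MiscFlat6.exists_spanning_nhd hFT x
  refine ⟨U, hx, fun y hy => ?_⟩
  haveI := free_stalk hFT hF y
  show _ ≤ rk M x
  rw [show rk M x = n from hn.symm, rk, MiscFlat6.finrank_fibre]
  refine (finrank_le_of_span_eq_top (R := X.presheaf.stalk y) (v := fun i => ger M y hy (e i)) ?_).trans
    (Fintype.card_fin n).le
  rw [← Fintype.range_linearCombination]
  exact LinearMap.range_eq_top.2 (hs y hy)

theorem rk_eq_of_specializes [Coh.IsQCoh M] (hFT : CohB1.IsFT M) (hF : FlatMod.IsFlat M) {x z : X}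
    (h : z ⤳ x) : rk M z = rk M x := by
  obtain ⟨U, n, e, hx, hn, hs⟩ := MiscFlat6.exists_spanning_nhd hFT x
  obtain ⟨V, hV, hxV, hVU⟩ := exists_isAffineOpen_mem_and_subset (x := x) (U := U) hx
  have hzV : z ∈ V := h.mem_open V.isOpen hxV
  let q := hV.primeIdealOf ⟨x, hxV⟩
  let p := hV.primeIdealOf ⟨z, hzV⟩
  have hpq : p.asIdeal ≤ q.asIdeal := by
    refine (PrimeSpectrum.le_iff_specializes p q).2 ?_
    refine hV.fromSpec.isOpenEmbedding.isEmbedding.isInducing.specializes_iff.1 ?_
    show hV.fromSpec p ⤳ hV.fromSpec q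
    rw [hV.fromSpec_primeIdealOf, hV.fromSpec_primeIdealOf]
    exact h
  letI := (X.presheaf.germ V x hxV).hom.toAlgebra
  letI := (X.presheaf.germ V z hzV).hom.toAlgebra
  letI := Module.compHom (M.presheaf.stalk x) (X.presheaf.germ V x hxV).hom
  letI := Module.compHom (M.presheaf.stalk z) (X.presheaf.germ V z hzV).hom
  haveI : IsScalarTower Γ(X, V) (X.presheaf.stalk x) (M.presheaf.stalk x) :=
    IsScalarTower.of_algebraMap_smul fun _ _ => rfl
  haveI : IsScalarTower Γ(X, V) (X.presheaf.stalk z) (M.presheaf.stalk z) :=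
    IsScalarTower.of_algebraMap_smul fun _ _ => rfl
  haveI : IsLocalization.AtPrime (X.presheaf.stalk x) q.asIdeal := hV.isLocalization_stalk ⟨x, hxV⟩
  haveI : IsLocalization.AtPrime (X.presheaf.stalk z) p.asIdeal := hV.isLocalization_stalk ⟨z, hzV⟩
  haveI := FlatLib.isLocalizedModule_germLin M hV hxV
  haveI := FlatLib.isLocalizedModule_germLin M hV hzV
  let e' : Fin n → Γ(M, V) := fun i => res M hVU (e i)
  have hex : ∀ i, ger M x hxV (e' i) = ger M x hx (e i) := fun i => ger_res M hVU x hxV (e i)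
  have hez : ∀ i, ger M z hzV (e' i) = ger M z (hVU hzV) (e i) := fun i => ger_res M hVU z hzV (e i)
  haveI := free_stalk hFT hF x
  haveI := free_stalk hFT hF z
  haveI := finite_stalk_of_isFT hFT x
  have hsx : ⊤ ≤ Submodule.span (X.presheaf.stalk x) (Set.range fun i => ger M x hxV (e' i)) := by
    simp only [hex]
    rw [← Fintype.range_linearCombination]
    exact (LinearMap.range_eq_top.2 (hs x hx)).ge
  have hix : LinearIndependent (X.presheaf.stalk x) fun i => FlatLib.germLin M hxV (e' i) := by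
    refine linearIndependent_of_top_le_span_of_card_eq_finrank hsx ?_
    rw [Fintype.card_fin]
    exact hn.trans MiscFlat6.finrank_fibre
  have hiz : LinearIndependent (X.presheaf.stalk z) fun i => FlatLib.germLin M hzV (e' i) :=
    linearIndependent_localized p.asIdeal q.asIdeal hpq (FlatLib.germLin M hzV) (FlatLib.germLin M hxV) e' hix
  have hsz : ⊤ ≤ Submodule.span (X.presheaf.stalk z) (Set.range fun i => ger M z hzV (e' i)) := by
    simp only [hez]
    rw [← Fintype.range_linearCombination]
    exact (LinearMap.range_eq_top.2 (hs z (hVU hzV))).ge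
  let b : Module.Basis (Fin n) (X.presheaf.stalk z) (M.presheaf.stalk z) := Module.Basis.mk hiz hsz
  show _ = rk M x
  rw [show rk M x = n from hn.symm, rk, MiscFlat6.finrank_fibre]
  exact (Module.finrank_eq_card_basis b).trans (Fintype.card_fin n)

theorem isLocallyConstant_rk [Coh.IsQCoh M] (hFT : CohB1.IsFT M) (hF : FlatMod.IsFlat M)
    (h : ∀ Z : Set X, IsClosed Z → StableUnderGeneralization Z → IsOpen Z) : IsLocallyConstant (rk M) := by
  refine (IsLocallyConstant.iff_isOpen_fiber).2 fun n => ?_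
  have hle : ∀ m : ℕ, IsOpen {y : X | rk M y ≤ m} := fun m => isOpen_iff_forall_mem_open.2 fun y hy => by
    obtain ⟨U, hyU, hU⟩ := rk_le_nhd hFT hF y
    exact ⟨U, fun w hw => (hU w hw).trans hy, U.isOpen, hyU⟩
  have hge : IsOpen {y : X | n ≤ rk M y} := by
    refine h _ ?_ fun y w hw hy => by
      show n ≤ rk M w
      rw [rk_eq_of_specializes hFT hF hw]
      exact hy
    rcases Nat.eq_zero_or_pos n with hn | hn
    · convert isClosed_univ
      ext y
      simp [hn]
    · convert (hle (n - 1)).isClosed_compl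
      ext y
      simp only [Set.mem_setOf_eq, Set.mem_compl_iff]
      omega
  convert (hle n).inter hge
  ext y
  simp only [Set.mem_preimage, Set.mem_singleton_iff, Set.mem_inter_iff, Set.mem_setOf_eq]
  omega

theorem isFlat_quotMod (I : X.IdealSheafData) [Flat I.subschemeι] : FlatMod.IsFlat (ClSub.quotMod I) := by
  rw [← Groth.Agent.RelFlatLib.isFlatOver_id_iff]
  refine (Groth.Agent.S9349.result I.subschemeι (𝟙 X) _
    (haveI h : CohB1.IsFP (Coh.structureModule I.subscheme) := DepthLib.isFP_structureModule; inferInstance)).1 ?_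
  exact PerfBaseLib.isFlatOver_unit (I.subschemeι ≫ 𝟙 X)

end FlatRankLib
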